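import Mathlib.RingTheory.NoetherNormalization
import Mathlib.RingTheory.Etale.Weakly
import Mathlib.Algebra.Algebra.Epi
import Groth.Agent.Lib.RG6.WEHens
import Groth.Agent.Lib.GeomFact.Transport
import Groth.Agent.Lib.Hensel.Henselization
import Groth.Agent.Lib.Hensel.TensorIntegral

/-!
# A strict henselization is one at a closed point over a separably closed field
-/

set_option autoImplicit false
set_option linter.style.haveILetI false

universe u

open TensorProduct IsLocalRing

namespace GrothLib.SHClosedPt18

/-- Localizations are weakly étale. -/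
theorem weaklyEtale_of_isLocalization {R : Type u} [CommRing R] (M : Submonoid R) (S : Type u) [CommRing S]
    [Algebra R S] [IsLocalization M S] : Algebra.WeaklyEtale R S := by
  haveI : Module.Flat R S := IsLocalization.flat S M
  refine { flat_lmul' := RingHom.Flat.of_bijective ⟨?_, fun s => ⟨s ⊗ₜ 1, by simp⟩⟩ }
  have key : ∀ x : S ⊗[R] S, x = (Algebra.TensorProduct.lmul' R x) ⊗ₜ (1 : S) := fun x => by
    induction x using TensorProduct.induction_on with
    | zero => simp
    | tmul a b =>
      rw [Algebra.TensorProduct.lmul'_apply_tmul]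
      obtain ⟨⟨r, m⟩, hb⟩ := IsLocalization.surj M b
      dsimp only at hb
      obtain ⟨v, hv⟩ := IsLocalization.map_units S m
      have e1 : a = (m : R) • ((↑v⁻¹ : S) * a) := by
        rw [Algebra.smul_def, ← hv, ← mul_assoc, Units.mul_inv, one_mul]
      have e2 : a * b = r • ((↑v⁻¹ : S) * a) := by
        rw [Algebra.smul_def, ← hb, ← hv]
        calc a * b = a * b * (↑v * ↑v⁻¹) := by rw [Units.mul_inv, mul_one]
          _ = b * ↑v * (↑v⁻¹ * a) := by ring
      rw [e2]
      conv_lhs => rw [e1]
      rw [smul_tmul, Algebra.smul_def, mul_comm (algebraMap R S (m : R)) b, hb, Algebra.algebraMap_eq_smul_one, ← smul_tmul]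
    | add x y hx hy => rw [map_add, add_tmul, ← hx, ← hy]
  intro x y hxy
  rw [key x, key y]
  exact congrArg (· ⊗ₜ (1 : S)) hxy

/-- Isomorphisms are weakly étale. -/
theorem weaklyEtale_of_bijective {R S : Type u} [CommRing R] [CommRing S] [Algebra R S]
    (h : Function.Bijective (algebraMap R S)) : Algebra.WeaklyEtale R S := by
  haveI : IsLocalization (⊥ : Submonoid R) R := IsLocalization.self bot_le
  haveI : IsLocalization (⊥ : Submonoid R) S :=
    IsLocalization.isLocalization_of_algEquiv _ (AlgEquiv.ofBijective (Algebra.ofId R S) h)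
  exact weaklyEtale_of_isLocalization ⊥ S

/-- A strict henselization of a field is a field with separably closed structure. -/
theorem exists_field_sh (K : Type u) [Field K] :
    ∃ (K' : Type u) (_ : Field K') (_ : IsSepClosed K') (_ : Algebra K K'), Algebra.WeaklyEtale K K' := by
  obtain ⟨S, _, _, _, _, hS⟩ := Groth.Agent.S0537.result K
  haveI := hS
  haveI := GrothLib.RG6.weaklyEtale_sh K S
  have hm : maximalIdeal S = ⊥ := by
    rw [← GrothLib.Hensel.IsStrictHenselization.map_maximalIdeal (R := K) (S := S), maximalIdeal_eq_bot,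
      Ideal.map_bot]
  haveI := (Hensel.IsStrictHenselization.isSepClosure (R := K) (S := S))
  haveI : IsSepClosed (ResidueField S) := IsSepClosure.sep_closed (ResidueField K)
  haveI : Algebra.WeaklyEtale S (ResidueField S) := weaklyEtale_of_bijective
    ⟨(injective_iff_map_eq_zero _).2 fun a ha => by
        rwa [ResidueField.algebraMap_eq, residue_eq_zero_iff, hm, Ideal.mem_bot] at ha,
      residue_surjective⟩
  exact ⟨ResidueField S, inferInstance, inferInstance, inferInstance, Algebra.WeaklyEtale.trans K S (ResidueField S)⟩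

/-- Strict henselizations are stable under isomorphisms. -/
theorem isStrictHenselization_of_algEquiv {R S T : Type u} [CommRing R] [IsLocalRing R] [CommRing S] [IsLocalRing S]
    [CommRing T] [IsLocalRing T] [Algebra R S] [IsLocalHom (algebraMap R S)] [Algebra R T]
    [IsLocalHom (algebraMap R T)] [hS : Hensel.IsStrictHenselization R S] (e : S ≃ₐ[R] T) :
    Hensel.IsStrictHenselization R T := by
  haveI := hS.henselian
  haveI := hS.isSepClosure
  let e₀ : ResidueField S ≃ₐ[ResidueField R] ResidueField T :=
    { ResidueField.mapEquiv e.toRingEquiv with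
      commutes' := fun r => by
        obtain ⟨r, rfl⟩ := residue_surjective r
        exact congrArg (residue T) (e.commutes r) }
  haveI : IsSepClosed (ResidueField S) := IsSepClosure.sep_closed (ResidueField R)
  haveI : Algebra.IsSeparable (ResidueField R) (ResidueField S) := IsSepClosure.separable
  refine ⟨?_, ?_, fun W _ _ f _ τ hτ => ?_⟩
  · letI : Algebra S T := e.toRingEquiv.toRingHom.toAlgebra
    haveI : Algebra.IsIntegral S T := ⟨fun t => by
      obtain ⟨x, rfl⟩ := e.surjective t
      exact isIntegral_algebraMap⟩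
    haveI : IsLocalHom (algebraMap S T) := ⟨fun a ha => (MulEquiv.isUnit_map e.toRingEquiv).1 ha⟩
    exact GrothLib.Hensel.henselianLocalRing_of_isIntegral_isLocalHom (R := S)
  · exact @GrothLib.Hensel.isSepClosure_of_algEquiv _ _ _ _ _ _ _ _ e₀ ⟨inferInstance, inferInstance⟩
  · obtain ⟨g, ⟨hg, hgτ⟩, hu⟩ := hS.universal W f (τ.comp e₀.toRingEquiv.toRingHom) (by
      rw [← hτ]
      refine Ideal.Quotient.ringHom_ext (RingHom.ext fun r => ?_)
      exact congrArg (fun z => τ (residue T z)) (e.commutes r))
    refine ⟨g.comp e.symm.toRingEquiv.toRingHom, ⟨?_, fun x => ?_⟩, fun g' hg' => ?_⟩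
    · ext r
      change g (e.symm (algebraMap R T r)) = f r
      rw [e.symm.commutes]
      exact RingHom.congr_fun hg r
    · change residue W (g (e.symm x)) = τ (residue T x)
      rw [hgτ]
      change τ (residue T (e (e.symm x))) = _
      rw [e.apply_symm_apply]
    · have := hu (g'.comp e.toRingEquiv.toRingHom) ⟨by
        ext r
        change g' (e (algebraMap R S r)) = f r
        rw [e.commutes]
        exact RingHom.congr_fun hg'.1 r, fun x => (hg'.2 (e x)).trans rfl⟩
      ext x
      change g' x = g (e.symm x)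
      rw [← this]
      exact congrArg g' (e.apply_symm_apply x).symm

/-- The algebraic step, over a weakly étale local algebra. -/
theorem exists_point {R R' B : Type u} [CommRing R] [CommRing R'] [IsLocalRing R'] [Algebra R R']
    [Algebra.WeaklyEtale R R'] [CommRing B] [Algebra R B] (P : Ideal B) [P.IsPrime]
    [Algebra.IsIntegral R (B ⧸ P)]
    (hker : RingHom.ker (algebraMap R (B ⧸ P)) = (maximalIdeal R').comap (algebraMap R R'))
    (O : Type u) [CommRing O] [IsLocalRing O] [Algebra B O]
    [IsLocalization.AtPrime O P] (A : Type u) [CommRing A] [IsLocalRing A] [Algebra O A]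
    [IsLocalHom (algebraMap O A)] [Hensel.IsStrictHenselization O A] :
    ∃ (m : Ideal (R' ⊗[R] B)) (_ : m.IsMaximal),
      m.comap (algebraMap R' (R' ⊗[R] B)) = maximalIdeal R' ∧
      ∀ (O' : Type u) [CommRing O'] [IsLocalRing O'] [Algebra (R' ⊗[R] B) O'] [IsLocalization.AtPrime O' m],
        ∃ (_ : Algebra O' A) (_ : IsLocalHom (algebraMap O' A)), Hensel.IsStrictHenselization O' A := by
  let k' := R'
  let G := k' ⊗[R] B
  let Q := k' ⊗[R] (B ⧸ P)
  letI := Algebra.TensorProduct.rightAlgebra (R := R) (A := k') (B := B)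
  haveI : Algebra.WeaklyEtale B G := by
    have := (inferInstance : Algebra.WeaklyEtale B (B ⊗[R] k'))
    let e : (B ⊗[R] k') ≃ₐ[B] G :=
      { (Algebra.TensorProduct.comm R B k').toRingEquiv with
        commutes' := fun _ => rfl }
    haveI : Module.Flat B G := Module.Flat.of_linearEquiv e.symm.toLinearEquiv
    letI : Algebra (B ⊗[R] k') G := e.toRingEquiv.toRingHom.toAlgebra
    haveI : IsScalarTower B (B ⊗[R] k') G := IsScalarTower.of_algebraMap_eq fun b => (e.commutes b).symm
    haveI : Algebra.WeaklyEtale (B ⊗[R] k') G := weaklyEtale_of_bijective e.bijective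
    exact Algebra.WeaklyEtale.trans B (B ⊗[R] k') G
  let π : G →ₐ[k'] Q := Algebra.TensorProduct.map (AlgHom.id k' k') (Ideal.Quotient.mkₐ R P)
  have hπ : Function.Surjective π := LinearMap.lTensor_surjective k' (g := (Ideal.Quotient.mkₐ R P).toLinearMap)
    Ideal.Quotient.mk_surjective
  haveI : Nontrivial Q := by
    -- through the common residue field
    let I := RingHom.ker (algebraMap R (B ⧸ P))
    haveI : I.IsPrime := RingHom.ker_isPrime _
    let R₀ := R ⧸ I
    letI : Algebra R₀ (B ⧸ P) := (RingHom.kerLift (algebraMap R (B ⧸ P))).toAlgebra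
    let κ := ResidueField R'
    letI : Algebra R₀ κ := (Ideal.Quotient.lift I ((residue R').comp (algebraMap R R')) fun a ha => by
      change residue R' (algebraMap R R' a) = 0
      rw [residue_eq_zero_iff]
      exact hker.le ha).toAlgebra
    haveI : IsScalarTower R R₀ (B ⧸ P) := IsScalarTower.of_algebraMap_eq fun _ => rfl
    haveI : IsScalarTower R R₀ κ := IsScalarTower.of_algebraMap_eq fun _ => rfl
    have hinjκ : Function.Injective (algebraMap R₀ κ) := (injective_iff_map_eq_zero _).2 fun a ha => by
      obtain ⟨a, rfl⟩ := Ideal.Quotient.mk_surjective a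
      exact Ideal.Quotient.eq_zero_iff_mem.2 (hker.ge ((residue_eq_zero_iff _).1 ha))
    haveI : FaithfulSMul R₀ κ := (faithfulSMul_iff_algebraMap_injective R₀ κ).2 hinjκ
    letI : Algebra (FractionRing R₀) κ := FractionRing.liftAlgebra R₀ κ
    haveI : IsScalarTower R₀ (FractionRing R₀) κ := FractionRing.isScalarTower_liftAlgebra R₀ κ
    haveI : Module.Flat R₀ (FractionRing R₀) := IsLocalization.flat _ (nonZeroDivisors R₀)
    haveI : Module.Flat R₀ κ := Module.Flat.trans R₀ (FractionRing R₀) κ
    have hinj : Function.Injective (algebraMap R₀ (B ⧸ P)) := RingHom.kerLift_injective _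
    haveI : Nontrivial (κ ⊗[R₀] (B ⧸ P)) := Function.Injective.nontrivial
      (Algebra.TensorProduct.includeLeft_injective (S := R₀) (A := κ) (B := B ⧸ P) hinj)
    let ψ : Q →ₐ[R] κ ⊗[R₀] (B ⧸ P) := Algebra.TensorProduct.lift
      ((Algebra.TensorProduct.includeLeft : κ →ₐ[R] κ ⊗[R₀] (B ⧸ P)).comp (IsScalarTower.toAlgHom R R' κ))
      ((Algebra.TensorProduct.includeRight : (B ⧸ P) →ₐ[R₀] κ ⊗[R₀] (B ⧸ P)).restrictScalars R)
      fun _ _ => Commute.all _ _
    exact ψ.toRingHom.domain_nontrivial
  obtain ⟨n, hn⟩ := Ideal.exists_maximal Q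
  let m : Ideal G := n.comap π
  haveI : m.IsMaximal := Ideal.comap_isMaximal_of_surjective π hπ
  haveI : Algebra.IsIntegral R' Q := inferInstance
  have hn' : n.comap (algebraMap R' Q) = maximalIdeal R' :=
    eq_maximalIdeal (Ideal.isMaximal_comap_of_isIntegral_of_isMaximal n)
  refine ⟨m, inferInstance, ?_, fun O' _ _ _ _ => ?_⟩
  · change (n.comap π).comap (algebraMap k' G) = _
    rw [← hn']
    ext a
    change π (algebraMap k' G a) ∈ n ↔ _
    rw [π.commutes]
    rfl
  -- the point lies over `P`
  have hP : m.comap (algebraMap B G) = P := by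
    let q : Ideal (B ⧸ P) := n.comap (Algebra.TensorProduct.includeRight : B ⧸ P →ₐ[R] Q)
    haveI := hn.isPrime
    haveI : q.IsPrime := Ideal.comap_isPrime _ n
    have hq : q = ⊥ := by
      let I := RingHom.ker (algebraMap R (B ⧸ P))
      haveI : I.IsPrime := RingHom.ker_isPrime _
      letI : Algebra (R ⧸ I) (B ⧸ P) := (RingHom.kerLift (algebraMap R (B ⧸ P))).toAlgebra
      haveI : IsScalarTower R (R ⧸ I) (B ⧸ P) := IsScalarTower.of_algebraMap_eq fun _ => rfl
      haveI : Algebra.IsIntegral (R ⧸ I) (B ⧸ P) := Algebra.IsIntegral.tower_top R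
      refine Ideal.eq_bot_of_comap_eq_bot (R := R ⧸ I) (le_bot_iff.1 fun r hr => ?_)
      obtain ⟨r, rfl⟩ := Ideal.Quotient.mk_surjective r
      refine Ideal.Quotient.eq_zero_iff_mem.2 (hker.ge ?_)
      have e : (Algebra.TensorProduct.includeRight : B ⧸ P →ₐ[R] Q) (algebraMap R _ r) =
          algebraMap k' Q (algebraMap R k' r) := by
        rw [AlgHom.commutes]
        rfl
      refine hn'.le ?_
      change algebraMap k' Q (algebraMap R k' r) ∈ n
      rw [← e]
      exact hr
    ext b
    have e : b ∈ m.comap (algebraMap B G) ↔ Ideal.Quotient.mk P b ∈ q := Iff.rfl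
    rw [e, hq, Ideal.mem_bot, Ideal.Quotient.eq_zero_iff_mem]
  letI : Algebra B O' := ((algebraMap G O').comp (algebraMap B G)).toAlgebra
  haveI : IsScalarTower B G O' := IsScalarTower.of_algebraMap_eq fun _ => rfl
  haveI : Algebra.WeaklyEtale G O' := weaklyEtale_of_isLocalization m.primeCompl O'
  haveI : Algebra.WeaklyEtale B O' := Algebra.WeaklyEtale.trans B G O'
  haveI : Algebra.WeaklyEtale B O := weaklyEtale_of_isLocalization P.primeCompl O
  have hunit : ∀ y : P.primeCompl, IsUnit (algebraMap B O' y) := fun y => by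
    rw [IsScalarTower.algebraMap_apply B G O', IsLocalization.AtPrime.isUnit_to_map_iff O' m]
    intro h
    exact y.2 (hP.le h)
  let ι : O →+* O' := IsLocalization.lift hunit
  letI : Algebra O O' := ι.toAlgebra
  haveI : IsScalarTower B O O' := IsScalarTower.of_algebraMap_eq fun b => (IsLocalization.lift_eq hunit b).symm
  haveI : Algebra.WeaklyEtale O O' := Groth.Agent.S7127.result B O O'
  haveI : IsLocalHom (algebraMap O O') := ⟨fun a ha => by
    obtain ⟨b, y, rfl⟩ := IsLocalization.exists_mk'_eq P.primeCompl a
    rw [IsLocalization.AtPrime.isUnit_mk'_iff]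
    intro hb
    have h1 : IsUnit (ι (IsLocalization.mk' O b y * algebraMap B O y)) := by
      rw [map_mul]
      exact ha.mul ((IsLocalization.map_units O y).map ι)
    rw [IsLocalization.mk'_spec] at h1
    change IsUnit (algebraMap O O' (algebraMap B O b)) at h1
    rw [← IsScalarTower.algebraMap_apply, IsScalarTower.algebraMap_apply B G O',
      IsLocalization.AtPrime.isUnit_to_map_iff O' m] at h1
    exact h1 (hP.ge hb)⟩
  obtain ⟨C, _, _, _, _, hC⟩ := Groth.Agent.S0537.result O'
  haveI := hC
  letI : Algebra O C := ((algebraMap O' C).comp (algebraMap O O')).toAlgebra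
  haveI : IsScalarTower O O' C := IsScalarTower.of_algebraMap_eq fun _ => rfl
  haveI : IsLocalHom (algebraMap O C) := RingHom.isLocalHom_comp _ _
  haveI := GrothLib.RG6.isStrictHenselization_of_weaklyEtale O O' C
  obtain ⟨e⟩ := GrothLib.Hensel.IsStrictHenselization.nonempty_algEquiv (R := O) (S := C) (S' := A)
  letI : Algebra O' A := (e.toRingEquiv.toRingHom.comp (algebraMap O' C)).toAlgebra
  haveI : IsLocalHom (algebraMap O' A) :=
    ⟨fun a ha => isUnit_of_map_unit (algebraMap O' C) a ((MulEquiv.isUnit_map e.toRingEquiv).1 ha)⟩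
  let eC : C ≃ₐ[O'] A := { e.toRingEquiv with commutes' := fun _ => rfl }
  exact ⟨inferInstance, inferInstance, isStrictHenselization_of_algEquiv eC⟩


/-- The algebraic step over a field. -/
theorem exists_closed_point {k B : Type u} [Field k] [CommRing B] [Algebra k B] [Algebra.FiniteType k B]
    (P : Ideal B) [P.IsPrime] (O : Type u) [CommRing O] [IsLocalRing O] [Algebra B O]
    [IsLocalization.AtPrime O P] (A : Type u) [CommRing A] [IsLocalRing A] [Algebra O A]
    [IsLocalHom (algebraMap O A)] [Hensel.IsStrictHenselization O A] :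
    ∃ (k' : Type u) (_ : Field k') (_ : IsSepClosed k') (G : Type u) (_ : CommRing G) (_ : Algebra k' G)
      (_ : Algebra.FiniteType k' G) (m : Ideal G) (_ : m.IsMaximal), ∀ (O' : Type u) [CommRing O'] [IsLocalRing O']
        [Algebra G O'] [IsLocalization.AtPrime O' m],
        ∃ (_ : Algebra O' A) (_ : IsLocalHom (algebraMap O' A)), Hensel.IsStrictHenselization O' A := by
  -- normalize the quotient
  obtain ⟨s, g, hginj, hgint⟩ := exists_integral_inj_algHom_of_fg k (B ⧸ P)
  choose t ht using fun i => Ideal.Quotient.mk_surjective (g (MvPolynomial.X i))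
  let R := MvPolynomial (Fin s) k
  let φ : R →ₐ[k] B := MvPolynomial.aeval t
  letI : Algebra R B := φ.toRingHom.toAlgebra
  haveI : IsScalarTower k R B := IsScalarTower.of_algebraMap_eq fun c => (φ.commutes c).symm
  haveI : Algebra.FiniteType R B := Algebra.FiniteType.of_restrictScalars_finiteType k R B
  have hφ : ∀ r, Ideal.Quotient.mk P (algebraMap R B r) = g r := fun r => by
    have : (Ideal.Quotient.mkₐ k P).comp φ = g := MvPolynomial.algHom_ext fun i => by simp [φ, ht]
    exact AlgHom.congr_fun this r
  haveI : Algebra.IsIntegral R (B ⧸ P) := ⟨fun x => by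
    have e : algebraMap R (B ⧸ P) = g.toRingHom := RingHom.ext hφ
    change (algebraMap R (B ⧸ P)).IsIntegralElem x
    rw [e]
    exact hgint x⟩
  -- the separably closed field
  let K := FractionRing R
  obtain ⟨k', _, _, _, hwe⟩ := exists_field_sh K
  letI : Algebra R k' := ((algebraMap K k').comp (algebraMap R K)).toAlgebra
  haveI : IsScalarTower R K k' := IsScalarTower.of_algebraMap_eq fun _ => rfl
  haveI : Algebra.WeaklyEtale R K := weaklyEtale_of_isLocalization (nonZeroDivisors R) K
  haveI : Algebra.WeaklyEtale R k' := Algebra.WeaklyEtale.trans R K k'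
  obtain ⟨m, hm, -, hSH⟩ := exists_point (R := R) (R' := k') P (by
    rw [maximalIdeal_eq_bot]
    have hinj : Function.Injective (algebraMap R (B ⧸ P)) := fun a b h => hginj ((hφ a).symm.trans (h.trans (hφ b)))
    have hinj' : Function.Injective (algebraMap R k') :=
      (algebraMap K k').injective.comp (IsFractionRing.injective R K)
    rw [(RingHom.injective_iff_ker_eq_bot _).1 hinj]
    exact ((RingHom.injective_iff_ker_eq_bot _).1 hinj').symm) O A
  exact ⟨k', inferInstance, inferInstance, k' ⊗[R] B, inferInstance, inferInstance, inferInstance, m, hm, hSH⟩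

end GrothLib.SHClosedPt18
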