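import Groth.Agent.Lib.SHClosedPt18.Basic
import Groth.Agent.Lib.Hensel.Regular
import Groth.Agent.Lib.RegUFD.Basic
import Mathlib.RingTheory.DiscreteValuationRing.TFAE
import Mathlib.RingTheory.Polynomial.Basic

/-!
# A strict henselization is one at a closed point over a strictly henselian discrete valuation ring
-/

set_option autoImplicit false
set_option linter.style.haveILetI false

universe u

open TensorProduct IsLocalRing

namespace GrothLib.SHClosedPt18

theorem isDVR_of_principal {R : Type u} [CommRing R] [IsDomain R] [IsLocalRing R] [IsNoetherianRing R]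
    (π : R) (hπ : π ≠ 0) (h : maximalIdeal R = Ideal.span {π}) : IsDiscreteValuationRing R := by
  haveI : IsPrincipalIdealRing R :=
    ((tfae_of_isNoetherianRing_of_isLocalRing_of_isDomain R).out 4 0 rfl rfl).1 ⟨⟨π, h⟩⟩
  exact { not_a_field' := fun h0 => hπ (by rwa [h, Ideal.span_singleton_eq_bot] at h0) }

/-- The algebraic step over a discrete valuation ring. -/
theorem exists_closed_point_dvr {R B : Type u} [CommRing R] [IsDomain R] [IsDiscreteValuationRing R]
    [CommRing B] [Algebra R B] [Algebra.FiniteType R B]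
    (P : Ideal B) [P.IsPrime] (hP : P.comap (algebraMap R B) = maximalIdeal R)
    (O : Type u) [CommRing O] [IsLocalRing O] [Algebra B O]
    [IsLocalization.AtPrime O P] (A : Type u) [CommRing A] [IsLocalRing A] [Algebra O A]
    [IsLocalHom (algebraMap O A)] [Hensel.IsStrictHenselization O A] :
    ∃ (R' : Type u) (_ : CommRing R') (_ : IsDomain R') (_ : IsDiscreteValuationRing R')
      (_ : HenselianLocalRing R') (_ : IsSepClosed (ResidueField R'))
      (G : Type u) (_ : CommRing G) (_ : Algebra R' G) (_ : Algebra.FiniteType R' G)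
      (m : Ideal G) (_ : m.IsMaximal) (_ : m.comap (algebraMap R' G) = maximalIdeal R'),
      ∀ (O' : Type u) [CommRing O'] [IsLocalRing O'] [Algebra G O'] [IsLocalization.AtPrime O' m],
        ∃ (_ : Algebra O' A) (_ : IsLocalHom (algebraMap O' A)), Hensel.IsStrictHenselization O' A := by
  let κ := ResidueField R
  letI : Algebra κ (B ⧸ P) := (Ideal.Quotient.lift (maximalIdeal R) ((Ideal.Quotient.mk P).comp (algebraMap R B))
    fun a ha => Ideal.Quotient.eq_zero_iff_mem.2 (hP.ge ha)).toAlgebra
  haveI : IsScalarTower R κ (B ⧸ P) := IsScalarTower.of_algebraMap_eq fun _ => rfl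
  haveI : Algebra.FiniteType κ (B ⧸ P) := Algebra.FiniteType.of_restrictScalars_finiteType R κ _
  obtain ⟨s, g, hginj, hgint⟩ := exists_integral_inj_algHom_of_fg κ (B ⧸ P)
  choose t ht using fun i => Ideal.Quotient.mk_surjective (g (MvPolynomial.X i))
  let S := MvPolynomial (Fin s) R
  let φ : S →ₐ[R] B := MvPolynomial.aeval t
  letI : Algebra S B := φ.toRingHom.toAlgebra
  haveI : IsScalarTower R S B := IsScalarTower.of_algebraMap_eq fun c => (φ.commutes c).symm
  haveI : Algebra.FiniteType S B := Algebra.FiniteType.of_restrictScalars_finiteType R S B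
  let ρ : S →+* MvPolynomial (Fin s) κ := MvPolynomial.map (residue R)
  have hρ : algebraMap S (B ⧸ P) = g.toRingHom.comp ρ := by
    refine MvPolynomial.ringHom_ext (fun r => ?_) fun i => ?_
    · change Ideal.Quotient.mk P (MvPolynomial.aeval t (MvPolynomial.C r)) = g (MvPolynomial.map _ (MvPolynomial.C r))
      rw [MvPolynomial.aeval_C, MvPolynomial.map_C]
      exact (g.commutes (residue R r)).symm
    · change Ideal.Quotient.mk P (MvPolynomial.aeval t (MvPolynomial.X i)) = g (MvPolynomial.map _ (MvPolynomial.X i))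
      rw [MvPolynomial.aeval_X, MvPolynomial.map_X, ht]
  haveI : Algebra.IsIntegral S (B ⧸ P) := ⟨fun x => by
    change (algebraMap S (B ⧸ P)).IsIntegralElem x
    rw [hρ]
    exact RingHom.IsIntegral.trans ρ g.toRingHom
      (RingHom.isIntegral_of_surjective _ (MvPolynomial.map_surjective _ residue_surjective)) hgint x⟩
  obtain ⟨ϖ, hϖ⟩ := IsDiscreteValuationRing.exists_irreducible R
  let 𝔭 : Ideal S := RingHom.ker (algebraMap S (B ⧸ P))
  haveI : 𝔭.IsPrime := RingHom.ker_isPrime _
  have h𝔭 : 𝔭 = Ideal.span {MvPolynomial.C ϖ} := by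
    have h1 : 𝔭 = RingHom.ker ρ := by
      change RingHom.ker (algebraMap S (B ⧸ P)) = _
      rw [hρ, ← RingHom.comap_ker,
        show RingHom.ker g.toRingHom = ⊥ from (RingHom.injective_iff_ker_eq_bot g.toRingHom).1 hginj]
      rfl
    rw [h1, MvPolynomial.ker_map, IsLocalRing.ker_residue, hϖ.maximalIdeal_eq, Ideal.map_span, Set.image_singleton]
  let R₁ := Localization.AtPrime 𝔭
  have hm₁ : maximalIdeal R₁ = Ideal.span {algebraMap S R₁ (MvPolynomial.C ϖ)} := by
    rw [← Localization.AtPrime.map_eq_maximalIdeal]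
    exact (congrArg (Ideal.map (algebraMap S R₁)) h𝔭).trans (by rw [Ideal.map_span, Set.image_singleton])
  haveI : IsNoetherianRing R₁ := IsLocalization.isNoetherianRing 𝔭.primeCompl R₁ inferInstance
  haveI : IsDomain R₁ := IsLocalization.isDomain_localization 𝔭.primeCompl_le_nonZeroDivisors
  have hπ₁ : algebraMap S R₁ (MvPolynomial.C ϖ) ≠ 0 := by
    rw [ne_eq, IsLocalization.to_map_eq_zero_iff R₁ 𝔭.primeCompl_le_nonZeroDivisors, MvPolynomial.C_eq_zero]
    exact hϖ.ne_zero
  haveI : IsDiscreteValuationRing R₁ := isDVR_of_principal _ hπ₁ hm₁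
  obtain ⟨R', _, _, _, _, hS⟩ := Groth.Agent.S0537.result R₁
  haveI := hS
  haveI : IsNoetherianRing R' := (GrothLib.Hensel.IsStrictHenselization.isNoetherianRing_iff (R := R₁) (S := R')).1 inferInstance
  haveI : IsRegularLocalRing R' := (GrothLib.Hensel.IsStrictHenselization.isRegularLocalRing_iff (R := R₁) (S := R')).1 inferInstance
  haveI : IsDomain R' := GrothLib.CMFree.isDomain_of_isRegularLocalRing R'
  haveI := GrothLib.Hensel.IsStrictHenselization.faithfullyFlat (R := R₁) (S := R')
  haveI : IsDiscreteValuationRing R' := by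
    refine isDVR_of_principal (algebraMap R₁ R' (algebraMap S R₁ (MvPolynomial.C ϖ))) ?_ ?_
    · exact fun h => hπ₁ (FaithfulSMul.algebraMap_injective R₁ R' (h.trans (map_zero _).symm))
    · rw [← GrothLib.Hensel.IsStrictHenselization.map_maximalIdeal (R := R₁) (S := R'), hm₁, Ideal.map_span,
        Set.image_singleton]
  haveI := hS.henselian
  haveI := hS.isSepClosure
  haveI : IsSepClosed (ResidueField R') := IsSepClosure.sep_closed (ResidueField R₁)
  haveI : Algebra.WeaklyEtale R₁ R' := GrothLib.RG6.weaklyEtale_sh R₁ R'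
  letI : Algebra S R' := ((algebraMap R₁ R').comp (algebraMap S R₁)).toAlgebra
  haveI : IsScalarTower S R₁ R' := IsScalarTower.of_algebraMap_eq fun _ => rfl
  haveI : Algebra.WeaklyEtale S R₁ := weaklyEtale_of_isLocalization 𝔭.primeCompl R₁
  haveI : Algebra.WeaklyEtale S R' := Algebra.WeaklyEtale.trans S R₁ R'
  obtain ⟨m, hm, hm', hSH⟩ := exists_point (R := S) (R' := R') P (by
    change 𝔭 = _
    rw [IsScalarTower.algebraMap_eq S R₁ R', ← Ideal.comap_comap,
      ((local_hom_TFAE (algebraMap R₁ R')).out 0 4 rfl rfl).1 inferInstance]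
    exact (Localization.AtPrime.comap_maximalIdeal (I := 𝔭)).symm) O A
  exact ⟨R', inferInstance, inferInstance, inferInstance, inferInstance, inferInstance, R' ⊗[S] B,
    inferInstance, inferInstance, inferInstance, m, hm, hm', hSH⟩

end GrothLib.SHClosedPt18
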